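import Cfsg.Agent.H70.Syl
import Cfsg.Agent.H49.Prod
import Cfsg.Agent.H1.Frattini

/-! Project GC (notes/GMS42.md): special 2-groups with centre a field. -/

set_option autoImplicit false
set_option linter.unusedSectionVars false
set_option linter.unusedVariables false

namespace Cfsg.Agent.GC

open Subgroup H70 H92
open scoped commutatorElement

variable {G : Type*} [Group G] [Finite G] {F : Type*} [Field F] [Fintype F] [CharP F 2]
  {A A' R Y Z : Subgroup G} {ζ : G → F} {a b c d g j t w x y z : G}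

theorem cle (h : A ≤ R) : Nat.card A ≤ Nat.card R := card_le_of_le h

theorem mem_c1 : a ∈ centralizer ({b} : Set G) ↔ a * b = b * a := mem_centralizer_singleton_iff

theorem comm_one : ⁅a, b⁆ = 1 ↔ a * b = b * a := commutatorElement_eq_one_iff_mul_comm

theorem two_le_of_lt (h : A < R) : 2 * Nat.card A ≤ Nat.card R := by
  obtain ⟨k, hk⟩ := card_dvd_of_le h.le
  have h1 := H49.card_lt_of_lt h
  have hp : 0 < Nat.card A := Nat.card_pos
  rw [hk] at h1 ⊢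
  have : 1 < k := by nlinarith
  nlinarith

/-- an index two subgroup over `N` missing `a` -/
theorem exists_half (hA : IsPGroup 2 A) (hN : R ≤ A) (hsq : ∀ x ∈ A, x * x ∈ R) (ha : a ∈ A)
    (haN : a ∉ R) : ∃ U : Subgroup G, R ≤ U ∧ U ≤ A ∧ U.relIndex A = 2 ∧ a ∉ U := by
  have hsq' : ∀ x : A, x ^ 2 ∈ R.subgroupOf A := fun x => by rw [pow_two]; exact hsq x x.2
  have hcomm : commutator A ≤ R.subgroupOf A := by
    rw [commutator_def, commutator_le]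
    intro a _ b _
    have := mul_mem (mul_mem (hsq' a) (hsq' (a⁻¹ * b))) (hsq' b⁻¹)
    simpa only [commutatorElement_def, pow_two, mul_assoc, mul_inv_cancel_left] using this
  obtain ⟨M, hM, hle, huM⟩ := H1.exists_coatom_not_mem Nat.prime_two hcomm hsq' (x := ⟨a, ha⟩) haN
  refine ⟨M.map A.subtype, fun r hr => ⟨⟨r, hN hr⟩, hle hr, rfl⟩, map_subtype_le _, ?_, ?_⟩
  · rw [H49.relIndex_map_subtype_self]
    exact H1.index_eq_of_isCoatom_of_pgroup hA hM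
  · rintro ⟨r, hr, e⟩
    exact huM (by rwa [show r = ⟨a, ha⟩ from Subtype.ext e] at hr)

/-- `ζ` is an additive coordinate on `Z`. -/
structure Zc (Z : Subgroup G) (ζ : G → F) : Prop where
  mul : ∀ x ∈ Z, ∀ y ∈ Z, ζ (x * y) = ζ x + ζ y
  inj : ∀ x ∈ Z, ζ x = 0 → x = 1
  surj : ∀ a, ∃ x ∈ Z, ζ x = a

namespace Zc

variable (h : Zc Z ζ)
include h

theorem one : ζ 1 = 0 := by simpa using h.mul 1 (one_mem _) 1 (one_mem _)

theorem sq (hz : z ∈ Z) : z * z = 1 :=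
  h.inj _ (mul_mem hz hz) (by rw [h.mul _ hz _ hz, CharTwo.add_self_eq_zero])

theorem inv (hz : z ∈ Z) : z⁻¹ = z := inv_eq_of_mul_eq_one_left (h.sq hz)

theorem ext (hx : x ∈ Z) (hy : y ∈ Z) (e : ζ x = ζ y) : x = y := by
  have := h.inj _ (mul_mem hx hy) (by rw [h.mul _ hx _ hy, e, CharTwo.add_self_eq_zero])
  rw [← h.inv hy]; exact eq_inv_of_mul_eq_one_left this

theorem card : Nat.card Z = Fintype.card F := by
  rw [← Nat.card_eq_fintype_card]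
  exact Nat.card_congr (Equiv.ofBijective (fun x : Z => ζ x)
    ⟨fun x y e => Subtype.ext (h.ext x.2 y.2 e), fun a => by
      obtain ⟨x, hx, e⟩ := h.surj a; exact ⟨⟨x, hx⟩, e⟩⟩)

theorem ne (hz : z ∈ Z) (h1 : z ≠ 1) : ζ z ≠ 0 := fun e => h1 (h.inj _ hz e)

theorem pg : IsPGroup 2 Z := fun x => ⟨1, Subtype.ext (by simpa [pow_two] using h.sq x.2)⟩

end Zc

/-- A special group whose commutator form is bilinear over `F`. -/
structure Spc (A Z : Subgroup G) (ζ : G → F) : Prop where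
  zc : Zc Z ζ
  le : Z ≤ A
  cen : ∀ z ∈ Z, ∀ x ∈ A, z * x = x * z
  sq : ∀ x ∈ A, x * x ∈ Z
  nd : ∀ x ∈ A, (∀ y ∈ A, x * y = y * x) → x ∈ Z
  sc : ∀ l : F, ∀ x ∈ A, ∃ x' ∈ A, (∀ y ∈ A, ζ ⁅x', y⁆ = l * ζ ⁅x, y⁆) ∧
    ζ (x' * x') = l ^ 2 * ζ (x * x)

namespace Spc

variable (h : Spc A Z ζ)
include h

theorem pg : IsPGroup 2 A := fun x => ⟨2, Subtype.ext (by
  have := h.zc.sq (h.sq x x.2)
  simpa [pow_succ, mul_assoc] using this)⟩

theorem comm_mem (hx : x ∈ A) (hy : y ∈ A) : ⁅x, y⁆ ∈ Z := by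
  have := mul_mem (mul_mem (h.sq _ hx) (h.sq _ (mul_mem (inv_mem hx) hy))) (h.sq _ (inv_mem hy))
  simpa only [commutatorElement_def, mul_assoc, mul_inv_cancel_left] using this

theorem comm_symm (hx : x ∈ A) (hy : y ∈ A) : ⁅x, y⁆ = ⁅y, x⁆ := by
  rw [← commutatorElement_inv, h.zc.inv (h.comm_mem hy hx)]

theorem cj_z (hx : x ∈ A) (hz : z ∈ Z) : x * z * x⁻¹ = z := by
  rw [← h.cen z hz x hx, mul_inv_cancel_right]

theorem norm_Z : A ≤ normalizer (Z : Set G) := fun x hx =>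
  mem_normalizer_of_cj_le (cj_le_iff.2 fun z hz => (h.cj_z hx hz).symm ▸ hz)

theorem norm_le (hR : R ≤ Z) : A ≤ normalizer (R : Set G) := fun x hx =>
  mem_normalizer_of_cj_le (cj_le_iff.2 fun z hz => (h.cj_z hx (hR hz)).symm ▸ hz)

theorem comm_mul (hx : x ∈ A) (hy : y ∈ A) (hw : w ∈ A) : ⁅x * y, w⁆ = ⁅x, w⁆ * ⁅y, w⁆ := by
  rw [commutatorElement_mul_left_eq_conj_mul, h.cj_z hx (h.comm_mem hy hw),
    h.cen _ (h.comm_mem hy hw) _ (h.le (h.comm_mem hx hw))]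

theorem comm_mul' (hx : x ∈ A) (hy : y ∈ A) (hw : w ∈ A) : ⁅w, x * y⁆ = ⁅w, x⁆ * ⁅w, y⁆ := by
  rw [h.comm_symm hw (mul_mem hx hy), h.comm_mul hx hy hw, h.comm_symm hx hw, h.comm_symm hy hw]

theorem comm_z (hz : z ∈ Z) (hx : x ∈ A) : ⁅z, x⁆ = 1 := comm_one.2 (h.cen z hz x hx)

theorem comm_inv (hx : x ∈ A) (hw : w ∈ A) : ⁅x⁻¹, w⁆ = ⁅x, w⁆ := by
  have := h.comm_mul (inv_mem hx) hx hw
  rw [inv_mul_cancel, commutatorElement_one_left] at this
  rw [← h.zc.inv (h.comm_mem hx hw)]; exact eq_inv_of_mul_eq_one_left this.symm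

theorem sq_mul (hx : x ∈ A) (hy : y ∈ A) : x * y * (x * y) = x * x * (y * y) * ⁅x, y⁆ := by
  calc x * y * (x * y) = x * x * (⁅x⁻¹, y⁆ * (y * y)) := by group
    _ = _ := by rw [h.comm_inv hx hy, h.cen _ (h.comm_mem hx hy) _ (mul_mem hy hy), ← mul_assoc]

/-- scalar multiples keep centralisers -/
theorem sc_comm {l : F} {x' : G} (hx' : x' ∈ A) (e : ∀ y ∈ A, ζ ⁅x', y⁆ = l * ζ ⁅x, y⁆)
    (hj : j ∈ A) (hc : x * j = j * x) : x' * j = j * x' :=
  comm_one.1 (h.zc.inj _ (h.comm_mem hx' hj) (by rw [e j hj, comm_one.2 hc, h.zc.one, mul_zero]))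

theorem adj {S : Set G} (hS : S ⊆ A) (hx : x ∈ A) (hy : y ∈ A ⊓ centralizer S) (hn : ⁅x, y⁆ ≠ 1)
    (hz : z ∈ Z) : ∃ y ∈ A ⊓ centralizer S, ⁅x, y⁆ = z := by
  have h0 := h.zc.ne (h.comm_mem hx hy.1) hn
  obtain ⟨y', hy', e, -⟩ := h.sc (ζ z / ζ ⁅x, y⁆) y hy.1
  refine ⟨y', ⟨hy', fun s hs => (h.sc_comm hy' e (hS hs) (hy.2 s hs).symm).symm⟩,
    h.zc.ext (h.comm_mem hx hy') hz ?_⟩
  rw [h.comm_symm hx hy', e x hx, ← h.comm_symm hx hy.1, div_mul_cancel₀ _ h0]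

theorem exists_ne (hx : x ∈ A) (hn : x ∉ Z) : ∃ y ∈ A, ⁅x, y⁆ ≠ 1 := by
  by_contra hc
  push Not at hc
  exact hn (h.nd x hx fun y hy => comm_one.1 (hc y hy))

theorem onto (hx : x ∈ A) (hn : x ∉ Z) (hz : z ∈ Z) : ∃ y ∈ A, ⁅x, y⁆ = z := by
  obtain ⟨y, hy, e⟩ := h.exists_ne hx hn
  obtain ⟨y', hy', e'⟩ := h.adj (S := ∅) (Set.empty_subset _) hx ⟨hy, fun _ h => h.elim⟩ e hz
  exact ⟨y', hy'.1, e'⟩

theorem card_ker (hR : R ≤ A) (hx : x ∈ A) (ho : ∀ z ∈ Z, ∃ y ∈ R, ⁅x, y⁆ = z) :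
    Nat.card (R ⊓ centralizer ({x} : Set G) : Subgroup G) * Fintype.card F = Nat.card R := by
  let φ : R →* G := MonoidHom.mk' (fun y => ⁅x, (y : G)⁆) fun a b => h.comm_mul' (hR a.2) (hR b.2) hx
  have h1 : φ.range = Z := le_antisymm (by rintro _ ⟨y, rfl⟩; exact h.comm_mem hx (hR y.2))
    fun z hz => by obtain ⟨y, hy, e⟩ := ho z hz; exact ⟨⟨y, hy⟩, e⟩
  have h2 : φ.ker = (centralizer ({x} : Set G)).subgroupOf R := by
    ext y; rw [MonoidHom.mem_ker, mem_subgroupOf, mem_c1, eq_comm (a := (y : G) * x), ← comm_one]; rfl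
  rw [← h.zc.card, ← h1, ← index_ker, inf_comm, ← H49.card_subgroupOf, ← h2, card_mul_index]

theorem card_cent (hx : x ∈ A) (hn : x ∉ Z) :
    Nat.card (A ⊓ centralizer ({x} : Set G) : Subgroup G) * Fintype.card F = Nat.card A :=
  h.card_ker le_rfl hx fun _ hz => h.onto hx hn hz

theorem card_sup (hR : R ≤ A) : Nat.card (R ⊔ Z : Subgroup G) * Nat.card (R ⊓ Z : Subgroup G) =
    Nat.card R * Fintype.card F :=
  h.zc.card ▸ H49.card_sup_mul_card_inf (.inl (hR.trans h.norm_Z))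

theorem iso_aux {Z1 : Subgroup G} (h1 : Z1 ≤ Z) (h2 : Z1.relIndex Z = 2) (R : Subgroup G)
    (hR : R ≤ A) : Nat.card (A ⊓ relCent (R : Set G) Z1 : Subgroup G) * Nat.card R ≤
      Fintype.card F * Nat.card A := by
  induction R using WellFoundedGT.induction with
  | ind R ih =>
  by_cases h0 : A ≤ R
  · refine Nat.mul_le_mul (h.zc.card ▸ cle fun x hx => ?_) (cle hR)
    by_contra hn
    refine absurd (relIndex_eq_one.2 fun z hz => ?_) (h2 ▸ by decide : Z1.relIndex Z ≠ 1)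
    obtain ⟨y, hy, e⟩ := h.onto hx.1 hn hz
    exact e ▸ hx.2.2 y (h0 hy)
  obtain ⟨w, hw, hn⟩ := SetLike.not_le_iff_exists.1 h0
  have hB : R ⊔ zpowers w ≤ A := sup_le hR (zpowers_le_of_mem hw)
  have h3 : R < R ⊔ zpowers w := lt_of_le_of_ne le_sup_left fun e =>
    hn (e ▸ mem_sup_right (mem_zpowers w))
  have hN := h.norm_le h1
  have h4 : Nat.card (A ⊓ relCent (R : Set G) Z1 : Subgroup G) ≤
      Nat.card (A ⊓ relCent ((R ⊔ zpowers w : Subgroup G) : Set G) Z1 : Subgroup G) * 2 := by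
    let φ : (A ⊓ relCent (R : Set G) Z1 : Subgroup G) →* G :=
      MonoidHom.mk' (fun y => ⁅(y : G), w⁆) fun a b => h.comm_mul a.2.1 b.2.1 hw
    rw [← (Z1.comap φ).card_mul_index, index_comap]
    refine Nat.mul_le_mul ?_ (h2 ▸ relIndex_le_of_le_right
      (by rintro _ ⟨y, rfl⟩; exact h.comm_mem y.2.1 hw) (H49.relIndex_pos _ _).ne')
    rw [← card_map_of_injective (subtype_injective _)]
    refine cle ?_
    rintro _ ⟨a, ha, rfl⟩
    refine ⟨a.2.1, hN a.2.1, fun b hb => ?_⟩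
    have : R ⊔ zpowers w ≤ relCent ({(a : G)} : Set G) Z1 :=
      sup_le (fun s hs => ⟨hN (hR hs), fun _ e => by
        rw [e, ← commutatorElement_inv]; exact inv_mem (a.2.2.2 s hs)⟩)
        (zpowers_le_of_mem ⟨hN hw, fun _ e => by
          rw [e, ← commutatorElement_inv]; exact inv_mem ha⟩)
    rw [← commutatorElement_inv]; exact inv_mem ((this hb).2 a rfl)
  refine le_trans ?_ (ih _ h3 hB)
  have := two_le_of_lt h3
  calc _ ≤ _ := Nat.mul_le_mul_right _ h4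
    _ ≤ _ := by rw [mul_assoc]; exact Nat.mul_le_mul_left _ this

/-- a large subgroup has derived group `Z` -/
theorem der (hR : R ≤ A) (hc : Fintype.card F * Nat.card A < Nat.card (R ⊔ Z : Subgroup G) ^ 2) :
    Z ≤ ⁅R, R⁆ := by
  by_contra hn
  obtain ⟨z, hz, hn⟩ := SetLike.not_le_iff_exists.1 hn
  have hle : ⁅R, R⁆ ≤ Z := commutator_le.2 fun a ha b hb => h.comm_mem (hR ha) (hR hb)
  obtain ⟨Z1, h0, h1, h2, -⟩ := exists_half h.zc.pg hle
    (fun x hx => h.zc.sq hx ▸ one_mem _) hz hn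
  have hB : R ⊔ Z ≤ A := sup_le hR h.le
  have hN := h.norm_le h1
  have hE : ∀ C : Subgroup G, C ≤ A → ⁅Z, C⁆ ≤ Z1 := fun C hC =>
    commutator_le.2 fun a ha b hb => h.comm_z ha (hC hb) ▸ one_mem _
  have h3 : R ⊔ Z ≤ A ⊓ relCent ((R ⊔ Z : Subgroup G) : Set G) Z1 :=
    le_inf hB (le_relCent.2 ⟨hB.trans hN, comm_sup_le (hR.trans hN) (h.le.trans hN)
      (comm_sup_le' (hR.trans hN) (h.le.trans hN) h0 (commutator_comm R Z ▸ hE R hR)) (hE _ hB)⟩)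
  have h4 := (Nat.mul_le_mul_right _ (cle h3)).trans (h.iso_aux h1 h2 _ hB)
  rw [← pow_two] at h4
  omega

theorem der_le (hR : R ≤ A) : ⁅R, R⁆ ≤ Z :=
  commutator_le.2 fun _ ha _ hb => h.comm_mem (hR ha) (hR hb)

theorem norm_of (h' : Spc Y Z ζ) (hc : ∀ x ∈ A, ∀ y ∈ Y, x * y = y * x) :
    A ≤ normalizer (Y : Set G) := fun x hx =>
  mem_normalizer_of_cj_le (cj_le_iff.2 fun y hy => by rwa [hc x hx y hy, mul_inv_cancel_right])

theorem mem_prod (h' : Spc Y Z ζ) (hc : ∀ x ∈ A, ∀ y ∈ Y, x * y = y * x) :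
    g ∈ A ⊔ Y ↔ ∃ x ∈ A, ∃ y ∈ Y, g = x * y := H49.mem_sup_of_norm_right (h.norm_of h' hc)

omit h in
theorem comm_prod (hc : ∀ x ∈ A, ∀ y ∈ Y, x * y = y * x) (hx : x ∈ A) (hy : y ∈ Y) (ha : a ∈ A)
    (hb : b ∈ Y) : ⁅x * y, a * b⁆ = ⁅x, a⁆ * ⁅y, b⁆ := by
  have c1 : Commute a y := hc a ha y hy
  have c2 : Commute x b := hc x hx b hb
  have c3 : Commute x y := hc x hx y hy
  have c4 : Commute a b := hc a ha b hb
  calc ⁅x * y, a * b⁆ = x * (y * a) * (b * y⁻¹ * x⁻¹) * (b⁻¹ * a⁻¹) := by group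
    _ = x * (a * y) * (x⁻¹ * (b * y⁻¹)) * (a⁻¹ * b⁻¹) := by
      rw [c1.eq, (c2.mul_right c3.inv_right).inv_left.eq, c4.inv_inv.eq]
    _ = x * a * (y * x⁻¹) * (b * y⁻¹ * a⁻¹) * b⁻¹ := by group
    _ = x * a * (x⁻¹ * y) * (a⁻¹ * (b * y⁻¹)) * b⁻¹ := by
      rw [c3.inv_left.eq, (c4.mul_right c1.inv_right).inv_left.eq]
    _ = x * a * x⁻¹ * (y * a⁻¹) * (b * y⁻¹) * b⁻¹ := by group
    _ = _ := by rw [← c1.inv_left.eq]; group

omit h in
theorem sq_prod (hc : x * y = y * x) : x * y * (x * y) = x * x * (y * y) := by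
  rw [mul_assoc, ← mul_assoc y, ← hc]; group

theorem prod (h' : Spc Y Z ζ) (hc : ∀ x ∈ A, ∀ y ∈ Y, x * y = y * x) : Spc (A ⊔ Y) Z ζ where
  zc := h.zc
  le := h.le.trans le_sup_left
  cen z hz g hg := by
    obtain ⟨x, hx, y, hy, rfl⟩ := (h.mem_prod h' hc).1 hg
    exact Commute.mul_right (h.cen z hz x hx) (h'.cen z hz y hy)
  sq g hg := by
    obtain ⟨x, hx, y, hy, rfl⟩ := (h.mem_prod h' hc).1 hg
    rw [sq_prod (hc x hx y hy)]; exact mul_mem (h.sq x hx) (h'.sq y hy)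
  nd g hg e := by
    obtain ⟨x, hx, y, hy, rfl⟩ := (h.mem_prod h' hc).1 hg
    refine mul_mem (h.nd x hx fun a ha => ?_) (h'.nd y hy fun b hb => ?_)
    · have := comm_prod hc hx hy ha (one_mem _)
      rw [mul_one, comm_one.2 (e a (mem_sup_left ha)), commutatorElement_one_right, mul_one] at this
      exact comm_one.1 this.symm
    · have := comm_prod hc hx hy (one_mem _) hb
      rw [one_mul, comm_one.2 (e b (mem_sup_right hb)), commutatorElement_one_right, one_mul] at this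
      exact comm_one.1 this.symm
  sc l g hg := by
    obtain ⟨x, hx, y, hy, rfl⟩ := (h.mem_prod h' hc).1 hg
    obtain ⟨x', hx', e1, e2⟩ := h.sc l x hx
    obtain ⟨y', hy', e3, e4⟩ := h'.sc l y hy
    refine ⟨x' * y', mul_mem_sup hx' hy', fun g hg => ?_, ?_⟩
    · obtain ⟨a, ha, b, hb, rfl⟩ := (h.mem_prod h' hc).1 hg
      rw [comm_prod hc hx' hy' ha hb, comm_prod hc hx hy ha hb,
        h.zc.mul _ (h.comm_mem hx' ha) _ (h'.comm_mem hy' hb),
        h.zc.mul _ (h.comm_mem hx ha) _ (h'.comm_mem hy hb), e1 a ha, e3 b hb, mul_add]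
    · rw [sq_prod (hc _ hx' _ hy'), sq_prod (hc _ hx _ hy), h.zc.mul _ (h.sq _ hx') _ (h'.sq _ hy'),
        h.zc.mul _ (h.sq _ hx) _ (h'.sq _ hy), e2, e4, mul_add]

theorem inf_prod (hc : ∀ x ∈ A, ∀ y ∈ Y, x * y = y * x) (hx : x ∈ A) (hy : x ∈ Y) : x ∈ Z :=
  h.nd x hx fun y hy' => (hc y hy' x hy).symm

theorem card_prod (h' : Spc Y Z ζ) (hc : ∀ x ∈ A, ∀ y ∈ Y, x * y = y * x) :
    Nat.card (A ⊔ Y : Subgroup G) * Fintype.card F = Nat.card A * Nat.card Y := by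
  rw [← H49.card_sup_mul_card_inf (.inl (h.norm_of h' hc)), ← h.zc.card,
    show A ⊓ Y = Z from le_antisymm (fun x hx => h.inf_prod hc hx.1 hx.2) (le_inf h.le h'.le)]

/-- in order `q ^ 3` commuting elements are proportional -/
theorem prop (h3 : Nat.card A = Fintype.card F ^ 3) (ha : a ∈ A) (hn : a ∉ Z) (hc : c ∈ A)
    (e : c * a = a * c) : ∃ l : F, ∀ y ∈ A, ζ ⁅c, y⁆ = l * ζ ⁅a, y⁆ := by
  obtain ⟨y, hy, hne⟩ := h.exists_ne ha hn
  have h0 := h.zc.ne (h.comm_mem ha hy) hne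
  obtain ⟨a', ha', e1, -⟩ := h.sc (ζ ⁅c, y⁆ / ζ ⁅a, y⁆) a ha
  have hd : c * a' ∈ A := mul_mem hc ha'
  have h1 : c * a' ∈ Z := by
    by_contra hn'
    have c1 : Commute (c * a') a := Commute.mul_left e (h.sc_comm ha' e1 ha rfl)
    have c2 : c * a' * y = y * (c * a') := comm_one.1 (h.zc.inj _ (h.comm_mem hd hy) (by
      rw [h.comm_mul hc ha' hy, h.zc.mul _ (h.comm_mem hc hy) _ (h.comm_mem ha' hy), e1 y hy,
        div_mul_cancel₀ _ h0, CharTwo.add_self_eq_zero]))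
    have k1 := h.card_cent hd hn'
    have k2 := h.card_ker (R := A ⊓ centralizer {c * a'}) inf_le_left ha fun z hz =>
      h.adj (Set.singleton_subset_iff.2 hd) ha ⟨hy, mem_c1.2 c2.symm⟩ hne hz
    have k3 := h.card_ker (R := A ⊓ centralizer {c * a'} ⊓ centralizer {a})
      (inf_le_left.trans inf_le_left) hy fun z hz => by
        obtain ⟨w, hw, e⟩ := h.adj (S := {c * a', a}) (Set.insert_subset hd
          (Set.singleton_subset_iff.2 ha)) hy ⟨ha, fun s hs => hs.elim (fun e => e ▸ c1.eq)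
            fun e => e ▸ rfl⟩ (h.comm_symm ha hy ▸ hne) hz
        exact ⟨w, ⟨⟨hw.1, mem_c1.2 (hw.2 _ (.inl rfl)).symm⟩, mem_c1.2 (hw.2 _ (.inr rfl)).symm⟩, e⟩
    have k4 : Z ≤ A ⊓ centralizer {c * a'} ⊓ centralizer {a} ⊓ centralizer {y} := fun z hz =>
      ⟨⟨⟨h.le hz, mem_c1.2 (h.cen z hz _ hd)⟩, mem_c1.2 (h.cen z hz _ ha)⟩, mem_c1.2 (h.cen z hz _ hy)⟩
    have k5 := h.zc.card ▸ cle k4
    rw [← k2, ← k3, h3] at k1
    have k6 : 1 < Fintype.card F := Fintype.one_lt_card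
    generalize Fintype.card F = q at *
    generalize Nat.card (A ⊓ centralizer {c * a'} ⊓ centralizer {a} ⊓ centralizer {y} : Subgroup G) = m at *
    have : m * q ^ 3 = 1 * q ^ 3 := by rw [one_mul]; linarith [show m * q ^ 3 = m * q * q * q by ring]
    have := Nat.eq_of_mul_eq_mul_right (by positivity) this
    omega
  refine ⟨ζ ⁅c, y⁆ / ζ ⁅a, y⁆, fun w hw => ?_⟩
  have := h.comm_mul hc ha' hw
  rw [h.comm_z h1 hw] at this
  rw [← e1 w hw, eq_inv_of_mul_eq_one_left this.symm, h.zc.inv (h.comm_mem ha' hw)]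

end Spc

end Cfsg.Agent.GC
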